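import Mathlib

/-!
Finite groups in which every nonidentity element fixes exactly two points (the classical counting
equation behind Dickson's list of subgroups of `PGL(2)`): the points with stabiliser of order at
least 6 number at most two, those with stabiliser of order at least 4 at most twelve.
-/

set_option autoImplicit false

namespace Cfsg.Agent.Lib.ExtraCubeRadical

open MulAction

/-- The arithmetic of the counting equation. -/
theorem three_orbits_aux {N o₁ o₂ o₃ a₁ a₃ : ℕ} (hN : 0 < N) (h1 : o₁ * a₁ = N) (h2 : o₂ * 2 = N)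
    (h3 : o₃ * a₃ = N) (hs : o₁ + o₂ + o₃ = N + 2) (h4 : 4 ≤ a₁) (ha3 : 2 ≤ a₃) :
    o₁ ≤ 12 ∧ a₃ < 4 ∧ (6 ≤ a₁ → o₁ ≤ 2) := by
  have e1 : o₁ * 4 ≤ N := h1 ▸ Nat.mul_le_mul_left o₁ h4
  have hlt : a₃ < 4 := by
    by_contra hc
    have e3 : o₃ * 4 ≤ N := h3 ▸ Nat.mul_le_mul_left o₃ (show 4 ≤ a₃ by omega)
    omega
  have e6 : 6 ≤ a₁ → o₁ * 6 ≤ N := fun h => h1 ▸ Nat.mul_le_mul_left o₁ h
  interval_cases a₃
  · exact ⟨by omega, by omega, fun _ => by omega⟩
  · by_cases h6 : 6 ≤ a₁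
    · have := e6 h6
      omega
    · interval_cases a₁ <;> omega

theorem three_orbits {N o₁ o₂ o₃ a₁ a₂ a₃ : ℕ} (hN : 0 < N) (h1 : o₁ * a₁ = N) (h2 : o₂ * a₂ = N)
    (h3 : o₃ * a₃ = N) (hs : o₁ + o₂ + o₃ = N + 2) (h4 : 4 ≤ a₁) (ha2 : 2 ≤ a₂) (ha3 : 2 ≤ a₃) :
    o₁ ≤ 12 ∧ a₂ < 4 ∧ a₃ < 4 ∧ (6 ≤ a₁ → o₁ ≤ 2) := by
  have e1 : o₁ * 4 ≤ N := h1 ▸ Nat.mul_le_mul_left o₁ h4
  by_cases h : a₂ = 2
  · subst h
    obtain ⟨x, y, z⟩ := three_orbits_aux hN h1 h2 h3 hs h4 ha3
    exact ⟨x, by omega, y, z⟩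
  by_cases h' : a₃ = 2
  · subst h'
    obtain ⟨x, y, z⟩ := three_orbits_aux hN h1 h3 h2 (by omega) h4 ha2
    exact ⟨x, y, by omega, z⟩
  have e2 : o₂ * 3 ≤ N := h2 ▸ Nat.mul_le_mul_left o₂ (show 3 ≤ a₂ by omega)
  have e3 : o₃ * 3 ≤ N := h3 ▸ Nat.mul_le_mul_left o₃ (show 3 ≤ a₃ by omega)
  omega

variable {H Ω : Type*} [Group H] [Finite H] [MulAction H Ω]

/-- The finite form: all point stabilisers nontrivial. -/
theorem ncard_large_stabilizer_le_of_finite [Finite Ω]
    (hfix : ∀ h : H, h ≠ 1 → Nat.card (fixedBy Ω h) = 2)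
    (hstab : ∀ x : Ω, stabilizer H x ≠ ⊥) :
    {x : Ω | 6 ≤ Nat.card (stabilizer H x)}.ncard ≤ 2 ∧
      {x : Ω | 4 ≤ Nat.card (stabilizer H x)}.ncard ≤ 12 := by
  classical
  letI : Setoid Ω := orbitRel H Ω
  haveI : Fintype H := Fintype.ofFinite H
  haveI : Fintype Ω := Fintype.ofFinite Ω
  set N := Fintype.card H with hNdef
  have hN : 0 < N := Fintype.card_pos
  let Q := Quotient (orbitRel H Ω)
  haveI : Fintype Q := Fintype.ofFinite _
  let o : Q → ℕ := fun q => Nat.card (orbit H q.out)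
  let a : Q → ℕ := fun q => Nat.card (stabilizer H q.out)
  have hoa : ∀ q, o q * a q = N := fun q => by
    simp only [o, a, hNdef]
    rw [← Nat.card_eq_fintype_card, ← Nat.card_prod,
      Nat.card_congr (orbitProdStabilizerEquivGroup H q.out)]
  have ha2 : ∀ q, 2 ≤ a q := fun q => (Subgroup.one_lt_card_iff_ne_bot _).mpr (hstab _)
  have hsum : Fintype.card Ω = ∑ q, o q := by
    rw [← Nat.card_eq_fintype_card, Nat.card_congr (selfEquivSigmaOrbits H Ω), Nat.card_sigma]
  have hburn : Fintype.card Ω + 2 * (N - 1) = Fintype.card Q * N := by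
    haveI : ∀ g : H, Fintype (fixedBy Ω g) := fun g => Fintype.ofFinite _
    rw [hNdef, ← sum_card_fixedBy_eq_card_orbits_mul_card_group H Ω,
      ← Finset.add_sum_erase Finset.univ _ (Finset.mem_univ (1 : H))]
    have h1 : Fintype.card (fixedBy Ω (1 : H)) = Fintype.card Ω :=
      Fintype.card_congr (Equiv.subtypeUnivEquiv fun x => one_smul H x)
    rw [h1, Finset.sum_congr rfl (g := fun _ => 2) (fun g hg => by
      rw [← Nat.card_eq_fintype_card]
      exact hfix g (Finset.ne_of_mem_erase hg))]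
    simp [Finset.card_erase_of_mem, mul_comm]
  have h2 : Fintype.card Ω * 2 ≤ Fintype.card Q * N := by
    rw [hsum, Finset.sum_mul, ← Finset.card_univ, ← smul_eq_mul, ← Finset.sum_const]
    exact Finset.sum_le_sum fun q _ => hoa q ▸ Nat.mul_le_mul_left _ (ha2 q)
  have hr3 : Fintype.card Q ≤ 3 := by
    by_contra hc
    have : 4 * N ≤ Fintype.card Q * N := Nat.mul_le_mul_right N (by omega)
    omega
  have main : ∀ k, 4 ≤ k → {x : Ω | k ≤ Nat.card (stabilizer H x)}.ncard ≤ 12 ∧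
      (6 ≤ k → {x : Ω | k ≤ Nat.card (stabilizer H x)}.ncard ≤ 2) := by
    intro k hk
    set T := {x : Ω | k ≤ Nat.card (stabilizer H x)}
    rcases T.eq_empty_or_nonempty with he | ⟨x₀, hx₀⟩
    · simp [he]
    have hΩpos : 0 < Fintype.card Ω := Fintype.card_pos_iff.mpr ⟨x₀⟩
    have hN2 : 2 ≤ N := by
      have h3 : Nat.card (stabilizer H x₀) ≤ Nat.card H := Subgroup.card_le_card_group _
      rw [Nat.card_eq_fintype_card (α := H), ← hNdef] at h3
      have h4 : k ≤ Nat.card (stabilizer H x₀) := hx₀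
      omega
    have hT : T.ncard ≤ Fintype.card Ω := by
      rw [← Nat.card_eq_fintype_card]
      exact Set.ncard_le_card T
    have hstabq : ∀ x : Ω, Nat.card (stabilizer H x) = a ⟦x⟧ := fun x =>
      Nat.card_congr (stabilizerEquivStabilizerOfOrbitRel
        (Setoid.symm (Quotient.mk_out (s := orbitRel H Ω) x))).toEquiv
    obtain hr | hr | hr : Fintype.card Q ≤ 1 ∨ Fintype.card Q = 2 ∨ Fintype.card Q = 3 := by omega
    · have : Fintype.card Q * N ≤ 1 * N := Nat.mul_le_mul_right N hr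
      omega
    · rw [hr] at hburn
      exact ⟨by omega, fun _ => by omega⟩
    · rw [hr] at hburn
      obtain ⟨q₁, q₂, hne, hq12⟩ := Finset.card_eq_two.mp
        (show (Finset.univ.erase (⟦x₀⟧ : Q)).card = 2 by
          rw [Finset.card_erase_of_mem (Finset.mem_univ _), Finset.card_univ, hr])
      have hs : o ⟦x₀⟧ + o q₁ + o q₂ = N + 2 := by
        have h := hsum
        rw [← Finset.add_sum_erase Finset.univ o (Finset.mem_univ (⟦x₀⟧ : Q)), hq12,
          Finset.sum_pair hne] at h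
        omega
      have hka : k ≤ a ⟦x₀⟧ := hstabq x₀ ▸ hx₀
      obtain ⟨ho, hb1, hb2, h6⟩ :=
        three_orbits hN (hoa _) (hoa q₁) (hoa q₂) hs (hk.trans hka) (ha2 q₁) (ha2 q₂)
      have hsub : T ⊆ orbit H (Quotient.out (⟦x₀⟧ : Q)) := by
        intro x hx
        have hqx : (⟦x⟧ : Q) = ⟦x₀⟧ := by
          by_contra hne'
          have hm : (⟦x⟧ : Q) ∈ Finset.univ.erase (⟦x₀⟧ : Q) :=
            Finset.mem_erase.mpr ⟨hne', Finset.mem_univ _⟩
          have hxk : k ≤ a ⟦x⟧ := hstabq x ▸ hx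
          rw [hq12, Finset.mem_insert, Finset.mem_singleton] at hm
          rcases hm with hm | hm <;> rw [hm] at hxk <;> omega
        rw [← hqx]
        exact Setoid.symm (Quotient.mk_out (s := orbitRel H Ω) x)
      have hle : T.ncard ≤ o ⟦x₀⟧ := by
        simp only [o, Nat.card_coe_set_eq]
        exact Set.ncard_le_ncard hsub
      exact ⟨hle.trans ho, fun hk6 => hle.trans (h6 (hk6.trans hka))⟩
  exact ⟨(main 6 (by norm_num)).2 le_rfl, (main 4 le_rfl).1⟩

/-- Every nonidentity element fixes exactly two points: few points have large stabilisers. -/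
theorem ncard_large_stabilizer_le (hfix : ∀ h : H, h ≠ 1 → (fixedBy Ω h).ncard = 2) :
    {x : Ω | 6 ≤ Nat.card (stabilizer H x)}.ncard ≤ 2 ∧
      {x : Ω | 4 ≤ Nat.card (stabilizer H x)}.ncard ≤ 12 := by
  classical
  let S : SubMulAction H Ω :=
    { carrier := {x | stabilizer H x ≠ ⊥}
      smul_mem' := fun g x hx h => hx (by
        rw [stabilizer_smul_eq_stabilizer_map_conj] at h
        exact (Subgroup.map_eq_bot_iff_of_injective _ (MulAut.conj g).injective).mp h) }
  have hsub : (S : Set Ω) ⊆ ⋃ h : {h : H // h ≠ 1}, fixedBy Ω (h : H) := by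
    intro x hx
    haveI : Nontrivial ↥(stabilizer H x) := (Subgroup.nontrivial_iff_ne_bot _).mpr hx
    obtain ⟨h, hh⟩ := exists_ne (1 : ↥(stabilizer H x))
    exact Set.mem_iUnion.mpr ⟨⟨h, fun e => hh (Subtype.ext e)⟩, h.2⟩
  haveI : Finite ↥S := by
    refine Set.Finite.to_subtype (s := (S : Set Ω)) (Set.Finite.subset (Set.finite_iUnion fun h => ?_) hsub)
    exact Set.finite_of_ncard_ne_zero (by rw [hfix _ h.2]; norm_num)
  have hfix' : ∀ h : H, h ≠ 1 → Nat.card (fixedBy (↥S) h) = 2 := by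
    intro h hh
    rw [← hfix h hh, ← Nat.card_coe_set_eq]
    refine Nat.card_congr
      { toFun := fun x => ⟨(x.1 : Ω), congrArg Subtype.val x.2⟩
        invFun := fun x => ⟨⟨x.1, fun e => hh ((Subgroup.mem_bot).mp (e ▸ (x.2 : h ∈ stabilizer H (x.1 : Ω))))⟩, Subtype.ext x.2⟩
        left_inv := fun _ => rfl
        right_inv := fun _ => rfl }
  have hst : ∀ x : ↥S, stabilizer H x = stabilizer H (x : Ω) := fun x =>
    S.stabilizer_of_subMul x
  obtain ⟨h6, h4⟩ := ncard_large_stabilizer_le_of_finite (H := H) (Ω := ↥S) hfix'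
    (fun x => by rw [hst]; exact x.2)
  have hT : ∀ k, 2 ≤ k → {x : Ω | k ≤ Nat.card (stabilizer H x)}.ncard =
      {x : ↥S | k ≤ Nat.card (stabilizer H x)}.ncard := by
    intro k hk
    rw [← Set.ncard_image_of_injective _ (Subtype.val_injective (p := fun x : Ω => x ∈ S))]
    congr 1
    ext x
    simp only [Set.mem_image, Set.mem_setOf_eq, hst]
    constructor
    · intro hx
      refine ⟨⟨x, fun e => ?_⟩, hx, rfl⟩
      rw [e, Subgroup.card_bot] at hx
      omega
    · rintro ⟨y, hy, rfl⟩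
      exact hy
  rw [hT 6 (by norm_num), hT 4 (by norm_num)]
  exact ⟨h6, h4⟩

end Cfsg.Agent.Lib.ExtraCubeRadical
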