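import Mathlib
import Cfsg.Agent.Lib.ExtraCubeRadical.Points

/-!
A group acting on a plane over `ZMod p` through elements of order prime to `p` cannot contain, for
many different lines, an element with eigenvalue `t⁻¹` on the line and determinant `t`.
-/

set_option autoImplicit false

namespace Cfsg.Agent.Lib.ExtraCubeRadical

open MulAction Module

section Field

variable {K : Type*} [Field K]

/-- A linear map fixing every line of the plane is a scalar. -/
theorem exists_scalar_of_fix_lines (f : (End K (Fin 2 → K))ˣ)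
    (h : ∀ x : Projectivization K (Fin 2 → K), f • x = x) :
    ∃ c : K, ∀ v, (f : End K (Fin 2 → K)) v = c • v := by
  have hev : ∀ v : Fin 2 → K, v ≠ 0 → ∃ a : K, (f : End K (Fin 2 → K)) v = a • v := by
    intro v hv
    have := h (Projectivization.mk K v hv)
    rw [Projectivization.smul_mk, Projectivization.mk_eq_mk_iff'] at this
    obtain ⟨a, ha⟩ := this
    exact ⟨a, ha.symm⟩
  obtain ⟨a, ha⟩ := hev ![1, 0] (fun h => one_ne_zero (congrFun h 0))
  obtain ⟨b, hb⟩ := hev ![0, 1] (fun h => one_ne_zero (congrFun h 1))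
  obtain ⟨c, hc⟩ := hev ![1, 1] (fun h => one_ne_zero (congrFun h 0))
  have e : (f : End K (Fin 2 → K)) ![1, 1] = a • ![1, 0] + b • ![0, 1] := by
    rw [← ha, ← hb, ← map_add]
    congr 1
    ext i; fin_cases i <;> simp
  rw [hc] at e
  have e0 := congrFun e 0
  have e1 := congrFun e 1
  simp at e0 e1
  refine ⟨a, fun v => ?_⟩
  have hv : v = v 0 • ![(1 : K), 0] + v 1 • ![(0 : K), 1] := by
    ext i; fin_cases i <;> simp
  conv_lhs => rw [hv]
  rw [map_add, map_smul, map_smul, ha, hb]
  ext i; fin_cases i <;> simp [← e0, ← e1, mul_comm]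

/-- A non-scalar linear map of finite order prime to the characteristic of an algebraically closed
field fixes exactly two lines of the plane. -/
theorem ncard_fixedBy_eq_two [IsAlgClosed K] (f : (End K (Fin 2 → K))ˣ) {m : ℕ} (hm : (m : K) ≠ 0)
    (hfm : f ^ m = 1) (hns : ¬ ∃ c : K, ∀ v, (f : End K (Fin 2 → K)) v = c • v) :
    (fixedBy (Projectivization K (Fin 2 → K)) f).ncard = 2 := by
  set g : End K (Fin 2 → K) := (f : End K (Fin 2 → K)) with hg
  have hgm : g ^ m = 1 := by rw [hg, ← Units.val_pow_eq_pow_val, hfm, Units.val_one]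
  obtain ⟨lam, hlam⟩ := End.exists_eigenvalue g
  obtain ⟨u, hu⟩ := hlam.exists_hasEigenvector
  have hgu : g u = lam • u := hu.apply_eq_smul
  have hlam0 : lam ≠ 0 := by
    intro h0
    rw [h0, zero_smul] at hgu
    have : (f⁻¹ : (End K (Fin 2 → K))ˣ).val (g u) = u := by
      rw [hg, ← End.mul_apply, Units.inv_mul, End.one_apply]
    rw [hgu, map_zero] at this
    exact hu.2 this.symm
  obtain ⟨w₀, hw₀⟩ : ∃ w, LinearIndependent K ![u, w] := by
    refine (exists_linearIndependent_pair_of_one_lt_finrank ?_ hu.2)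
    simp
  have hspan : ∀ {w : Fin 2 → K}, LinearIndependent K ![u, w] → ∀ v, ∃ a b : K, v = a • u + b • w := by
    intro w hw v
    have h := hw.span_eq_top_of_card_eq_finrank' (by simp)
    have hv : v ∈ Submodule.span K (Set.range ![u, w]) := h ▸ Submodule.mem_top
    rw [Matrix.range_cons, Matrix.range_cons, Matrix.range_empty, Set.union_empty,
      Set.singleton_union, Submodule.mem_span_pair] at hv
    obtain ⟨a, b, hab⟩ := hv
    exact ⟨a, b, hab.symm⟩
  obtain ⟨a, mu, haw⟩ := hspan hw₀ (g w₀)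
  have hne : mu ≠ lam := by
    intro he
    subst he
    have key : ∀ k : ℕ, (g ^ (k + 1)) w₀ = ((k + 1 : ℕ) * mu ^ k * a) • u + mu ^ (k + 1) • w₀ := by
      intro k
      induction k with
      | zero => simpa using haw
      | succ k ih =>
        rw [pow_succ', End.mul_apply, ih, map_add, map_smul, map_smul, hgu, haw, smul_add, smul_smul,
          smul_smul, smul_smul, ← add_assoc, ← add_smul]
        congr 1
        · congr 1
          push_cast
          ring
        · congr 1
          ring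
    obtain ⟨k, rfl⟩ : ∃ k, m = k + 1 := ⟨m - 1, by
      have : m ≠ 0 := fun e => hm (by rw [e, Nat.cast_zero])
      omega⟩
    have h0 := key k
    rw [hgm, End.one_apply] at h0
    have h1 : ((k + 1 : ℕ) * mu ^ k * a) • u + (mu ^ (k + 1) - 1) • w₀ = 0 := by
      rw [sub_smul, one_smul, add_sub, ← h0, sub_self]
    have h2 := (LinearIndependent.pair_iff.mp hw₀ _ _ h1).1
    have ha0 : a = 0 := by
      rcases mul_eq_zero.mp h2 with h3 | h3
      · rcases mul_eq_zero.mp h3 with h4 | h4
        · exact absurd h4 hm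
        · exact absurd (eq_zero_of_pow_eq_zero h4) hlam0
      · exact h3
    refine hns ⟨mu, fun v => ?_⟩
    obtain ⟨x, y, rfl⟩ := hspan hw₀ v
    change g (x • u + y • w₀) = _
    rw [map_add, map_smul, map_smul, hgu, haw, ha0]
    simp [smul_smul, mul_comm]
  set w := w₀ + (a / (mu - lam)) • u with hwdef
  have hgw : g w = mu • w := by
    rw [hwdef, map_add, map_smul, haw, hgu, smul_add, smul_smul, smul_smul, add_right_comm,
      ← add_smul, add_comm]
    congr 2
    have : mu - lam ≠ 0 := sub_ne_zero.mpr hne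
    field_simp
    ring
  have hw : LinearIndependent K ![u, w] := by
    rw [LinearIndependent.pair_iff]
    intro x y hxy
    rw [hwdef, smul_add, smul_smul, ← add_assoc, add_right_comm, ← add_smul] at hxy
    obtain ⟨h1, h2⟩ := LinearIndependent.pair_iff.mp hw₀ _ _ hxy
    subst h2
    simpa using h1
  have hw0 : w ≠ 0 := hw.ne_zero (i := 1)
  have hu0 : u ≠ 0 := hu.2
  have hset : fixedBy (Projectivization K (Fin 2 → K)) f =
      {Projectivization.mk K u hu0, Projectivization.mk K w hw0} := by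
    ext x
    induction x using Projectivization.ind with
    | h v hv =>
      simp only [mem_fixedBy, Projectivization.smul_mk, Set.mem_insert_iff, Set.mem_singleton_iff,
        Projectivization.mk_eq_mk_iff']
      constructor
      · rintro ⟨c, hc⟩
        change c • v = g v at hc
        obtain ⟨x, y, hxy⟩ := hspan hw v
        rw [hxy, map_add, map_smul, map_smul, hgu, hgw] at hc
        have h1 : (c * x - x * lam) • u + (c * y - y * mu) • w = 0 := by
          rw [← sub_eq_zero.mpr hc]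
          simp only [sub_smul, mul_smul, smul_add]
          abel
        obtain ⟨h2, h3⟩ := LinearIndependent.pair_iff.mp hw _ _ h1
        by_cases hy : y = 0
        · exact Or.inl ⟨x, by rw [hxy, hy, zero_smul, add_zero]⟩
        · by_cases hx : x = 0
          · exact Or.inr ⟨y, by rw [hxy, hx, zero_smul, zero_add]⟩
          · exfalso
            have e1 : c = lam := mul_right_cancel₀ hx (by rw [sub_eq_zero] at h2; rw [h2, mul_comm])
            have e2 : c = mu := mul_right_cancel₀ hy (by rw [sub_eq_zero] at h3; rw [h3, mul_comm])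
            exact hne (e2.symm.trans e1)
      · rintro (⟨x, rfl⟩ | ⟨x, rfl⟩)
        · exact ⟨lam, by change lam • x • u = g (x • u); rw [map_smul, hgu, smul_comm]⟩
        · exact ⟨mu, by change mu • x • w = g (x • w); rw [map_smul, hgw, smul_comm]⟩
  rw [hset, Set.ncard_pair]
  intro he
  rw [Projectivization.mk_eq_mk_iff'] at he
  obtain ⟨x, hx⟩ := he
  have := LinearIndependent.pair_iff.mp hw 1 (-x) (by rw [one_smul, neg_smul, hx, add_neg_cancel])
  exact one_ne_zero this.1

end Field

variable {p : ℕ} [hp : Fact p.Prime]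

/-- Few lines carry an element with eigenvalue `t⁻¹` on the line and determinant `t`. -/
theorem card_lines_le {Γ ι : Type*} [Group Γ] [Finite Γ] [Finite ι]
    (ρ : Γ →* Matrix.GeneralLinearGroup (Fin 2) (ZMod p)) (hρ : ∀ γ, ¬ p ∣ orderOf (ρ γ))
    (t : (ZMod p)ˣ) (c : ι → Fin 2 → ZMod p) (hc0 : ∀ i, c i ≠ 0)
    (hind : ∀ i j, i ≠ j → ∀ a : ZMod p, c i ≠ a • c j)
    (hel : ∀ i, ∃ γ, (ρ γ : Matrix (Fin 2) (Fin 2) (ZMod p)).mulVec (c i) =
      ((t⁻¹ : (ZMod p)ˣ) : ZMod p) • c i ∧
      (ρ γ : Matrix (Fin 2) (Fin 2) (ZMod p)).det = (t : ZMod p)) :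
    (6 ≤ orderOf (t ^ 3) → Nat.card ι ≤ 2) ∧ (4 ≤ orderOf (t ^ 3) → Nat.card ι ≤ 12) := by
  classical
  let K := AlgebraicClosure (ZMod p)
  let φ : ZMod p →+* K := algebraMap _ _
  let ψ : Matrix.GeneralLinearGroup (Fin 2) (ZMod p) →* (End K (Fin 2 → K))ˣ :=
    Units.map (((Matrix.toLinAlgEquiv' : Matrix (Fin 2) (Fin 2) K ≃ₐ[K] End K (Fin 2 → K)).toRingEquiv.toMonoidHom).comp
      (φ.mapMatrix : Matrix (Fin 2) (Fin 2) (ZMod p) →+* Matrix (Fin 2) (Fin 2) K).toMonoidHom)
  have hψ : ∀ M (v : Fin 2 → K), (ψ M : End K (Fin 2 → K)) v =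
      ((M : Matrix (Fin 2) (Fin 2) (ZMod p)).map φ).mulVec v := fun M v => rfl
  let Φ : Γ →* Equiv.Perm (Projectivization K (Fin 2 → K)) :=
    (MulAction.toPermHom _ _).comp (ψ.comp ρ)
  have hΦ : ∀ γ x, Φ γ x = ψ (ρ γ) • x := fun γ x => rfl
  haveI : Finite ↥Φ.range := Finite.of_surjective _ Φ.rangeRestrict_surjective
  have hfix : ∀ h : ↥Φ.range, h ≠ 1 →
      (fixedBy (Projectivization K (Fin 2 → K)) h).ncard = 2 := by
    rintro ⟨_, γ, rfl⟩ hne
    have hns : ¬ ∃ a : K, ∀ v, (ψ (ρ γ) : End K (Fin 2 → K)) v = a • v := by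
      rintro ⟨a, ha⟩
      refine hne (Subtype.ext (Equiv.ext fun x => ?_))
      induction x using Projectivization.ind with
      | h v hv =>
        change ψ (ρ γ) • Projectivization.mk K v hv = Projectivization.mk K v hv
        rw [Projectivization.smul_mk, Projectivization.mk_eq_mk_iff']
        exact ⟨a, (ha v).symm⟩
    have h2 := ncard_fixedBy_eq_two (ψ (ρ γ)) (m := orderOf (ρ γ))
      (fun e => hρ γ ((CharP.cast_eq_zero_iff K p _).mp e))
      (by rw [← map_pow, pow_orderOf_eq_one, map_one]) hns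
    exact h2
  obtain ⟨h6, h4⟩ := ncard_large_stabilizer_le (H := ↥Φ.range) hfix
  have hcK : ∀ i, (φ ∘ c i) ≠ 0 := fun i e => hc0 i (funext fun j => φ.injective (by
    rw [Pi.zero_apply, map_zero]; exact congrFun e j))
  let pt : ι → Projectivization K (Fin 2 → K) := fun i => Projectivization.mk K _ (hcK i)
  have hpt : Function.Injective pt := by
    intro i j hij
    by_contra hne
    simp only [pt, Projectivization.mk_eq_mk_iff'] at hij
    obtain ⟨a, ha⟩ := hij
    obtain ⟨k, hk⟩ : ∃ k, c j k ≠ 0 := Function.ne_iff.mp (hc0 j)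
    refine hind i j hne (c i k / c j k) (funext fun l => φ.injective ?_)
    have el := congrFun ha l
    have ek := congrFun ha k
    simp only [Pi.smul_apply, Function.comp_apply, smul_eq_mul] at el ek ⊢
    have hk' : φ (c j k) ≠ 0 := fun e => hk (φ.injective (by rw [e, map_zero]))
    rw [map_mul, map_div₀, ← el, ← ek, mul_div_assoc, div_self hk', mul_one]
  have hst : ∀ i, orderOf (t ^ 3) ≤ Nat.card (stabilizer ↥Φ.range (pt i)) := by
    intro i
    obtain ⟨γ, hev, hdet⟩ := hel i
    have hmem : Φ.rangeRestrict γ ∈ stabilizer ↥Φ.range (pt i) := by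
      rw [mem_stabilizer_iff]
      change ψ (ρ γ) • pt i = pt i
      rw [Projectivization.smul_mk, Projectivization.mk_eq_mk_iff']
      refine ⟨φ ((t⁻¹ : (ZMod p)ˣ) : ZMod p), ?_⟩
      change φ _ • (φ ∘ c i) = (ψ (ρ γ) : End K (Fin 2 → K)) (φ ∘ c i)
      rw [hψ]
      funext l
      rw [← RingHom.map_mulVec, hev, Pi.smul_apply, Pi.smul_apply, smul_eq_mul, smul_eq_mul,
        map_mul]
      rfl
    refine le_trans (Nat.le_of_dvd (orderOf_pos _) ?_)
      (Subgroup.orderOf_le_card _ (Set.toFinite _) hmem)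
    refine orderOf_dvd_of_pow_eq_one ?_
    set j := orderOf (Φ.rangeRestrict γ)
    have hj : Φ (γ ^ j) = 1 := by
      rw [map_pow]
      exact congrArg Subtype.val (pow_orderOf_eq_one (Φ.rangeRestrict γ))
    obtain ⟨a, ha⟩ := exists_scalar_of_fix_lines (ψ (ρ (γ ^ j)))
      (fun x => by rw [← hΦ, hj, Equiv.Perm.one_apply])
    set M : Matrix (Fin 2) (Fin 2) (ZMod p) := (ρ γ : Matrix (Fin 2) (Fin 2) (ZMod p))
    have hMj : ((ρ (γ ^ j)) : Matrix (Fin 2) (Fin 2) (ZMod p)) = M ^ j := by
      rw [map_pow, Units.val_pow_eq_pow_val]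
    have hentry : ∀ k l, φ ((M ^ j) k l) = if k = l then a else 0 := by
      intro k l
      have := congrFun (ha (Pi.single l 1)) k
      rw [hψ, hMj] at this
      simpa [Matrix.mulVec_single, Matrix.map_apply, Pi.single_apply] using this
    have hscal : M ^ j = (M ^ j) 0 0 • (1 : Matrix (Fin 2) (Fin 2) (ZMod p)) := by
      ext k l
      apply φ.injective
      rw [hentry, Matrix.smul_apply, smul_eq_mul, map_mul, hentry]
      by_cases hkl : k = l <;> simp [hkl, Matrix.one_apply]
    set d := (M ^ j) 0 0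
    have hvec : (M ^ j).mulVec (c i) = ((t⁻¹ : (ZMod p)ˣ) : ZMod p) ^ j • c i := by
      have : ∀ e : ℕ, (M ^ e).mulVec (c i) = ((t⁻¹ : (ZMod p)ˣ) : ZMod p) ^ e • c i := by
        intro e
        induction e with
        | zero => rw [pow_zero, pow_zero, Matrix.one_mulVec, one_smul]
        | succ e ih =>
          rw [pow_succ, ← Matrix.mulVec_mulVec, hev, Matrix.mulVec_smul, ih, smul_smul, pow_succ']
      exact this j
    rw [hscal, Matrix.smul_mulVec, Matrix.one_mulVec] at hvec
    have hd : d = ((t⁻¹ : (ZMod p)ˣ) : ZMod p) ^ j := by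
      obtain ⟨k, hk⟩ : ∃ k, c i k ≠ 0 := Function.ne_iff.mp (hc0 i)
      exact mul_right_cancel₀ hk (congrFun hvec k)
    have hdd : d ^ 2 = (t : ZMod p) ^ j := by
      rw [← hdet, ← Matrix.det_pow, hscal, Matrix.det_smul, Matrix.det_one, mul_one,
        Fintype.card_fin]
    rw [hd] at hdd
    refine Units.ext ?_
    rw [← pow_mul, Units.val_pow_eq_pow_val, Units.val_one]
    calc (t : ZMod p) ^ (3 * j) = (t : ZMod p) ^ j * ((t : ZMod p) ^ j) ^ 2 := by ring
      _ = (((t⁻¹ : (ZMod p)ˣ) : ZMod p) ^ j) ^ 2 * ((t : ZMod p) ^ j) ^ 2 := by rw [hdd]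
      _ = ((((t⁻¹ : (ZMod p)ˣ) : ZMod p) * t) ^ j) ^ 2 := by rw [mul_pow, mul_pow]
      _ = 1 := by rw [← Units.val_mul, inv_mul_cancel, Units.val_one, one_pow, one_pow]
  constructor
  all_goals intro hk
  all_goals
    first
      | refine le_trans (le_of_eq_of_le (Set.ncard_range_of_injective hpt).symm
          (Set.ncard_le_ncard (t := {x | 6 ≤ Nat.card (stabilizer ↥Φ.range x)}) ?_ ?_)) h6
      | refine le_trans (le_of_eq_of_le (Set.ncard_range_of_injective hpt).symm
          (Set.ncard_le_ncard (t := {x | 4 ≤ Nat.card (stabilizer ↥Φ.range x)}) ?_ ?_)) h4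
  · rintro _ ⟨i, rfl⟩; exact hk.trans (hst i)
  · refine Set.Finite.subset (Set.finite_iUnion (fun h : {h : ↥Φ.range // h ≠ 1} =>
      Set.finite_of_ncard_ne_zero (by rw [hfix _ h.2]; norm_num))) ?_
    intro x hx
    haveI : Nontrivial ↥(stabilizer ↥Φ.range x) :=
      Finite.one_lt_card_iff_nontrivial.mp (lt_of_lt_of_le (by norm_num) hx)
    obtain ⟨h, hh⟩ := exists_ne (1 : ↥(stabilizer ↥Φ.range x))
    exact Set.mem_iUnion.mpr ⟨⟨h, fun e => hh (Subtype.ext e)⟩, h.2⟩
  · rintro _ ⟨i, rfl⟩; exact hk.trans (hst i)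
  · refine Set.Finite.subset (Set.finite_iUnion (fun h : {h : ↥Φ.range // h ≠ 1} =>
      Set.finite_of_ncard_ne_zero (by rw [hfix _ h.2]; norm_num))) ?_
    intro x hx
    haveI : Nontrivial ↥(stabilizer ↥Φ.range x) :=
      Finite.one_lt_card_iff_nontrivial.mp (lt_of_lt_of_le (by norm_num) hx)
    obtain ⟨h, hh⟩ := exists_ne (1 : ↥(stabilizer ↥Φ.range x))
    exact Set.mem_iUnion.mpr ⟨⟨h, fun e => hh (Subtype.ext e)⟩, h.2⟩

end Cfsg.Agent.Lib.ExtraCubeRadical
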