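import Mathlib
import Cfsg.Agent.Lib.PGroup.Extraspecial
import Cfsg.Agent.Lib.ExtraCubeRadical.Lines

/-!
Radical lines of an extraspecial Sylow `p`-subgroup of order `p³` and exponent `p` (after Ruiz and
Viruel): each gives an element of the Sylow normaliser with eigenvalue `t⁻¹` on the line and
determinant `t`.
-/

set_option autoImplicit false

namespace Cfsg.Agent.Lib.ExtraCubeRadical

open Subgroup
open scoped commutatorElement

variable {p : ℕ} [hp : Fact p.Prime]

section Coords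

variable {E : Type*} [Group E] [Finite E]

/-- Powers with exponents in `ZMod p`. -/
theorem pow_val_add {a : E} (ha : a ^ p = 1) (i j : ZMod p) :
    a ^ (i + j).val = a ^ i.val * a ^ j.val := by
  rw [← pow_add, ZMod.val_add, ← pow_eq_pow_mod _ ha]

theorem pow_val_inj {a : E} (ha : a ^ p = 1) (h1 : a ≠ 1) {i j : ZMod p}
    (h : a ^ i.val = a ^ j.val) : i = j := by
  rw [pow_eq_pow_iff_modEq, orderOf_eq_prime ha h1] at h
  have := Nat.ModEq.eq_of_lt_of_lt h (ZMod.val_lt i) (ZMod.val_lt j)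
  exact ZMod.val_injective p this

theorem pow_val_natCast {a : E} (ha : a ^ p = 1) (n : ℕ) : a ^ ((n : ZMod p)).val = a ^ n := by
  rw [ZMod.val_natCast, ← pow_eq_pow_mod _ ha]

theorem pow_val_neg {a : E} (ha : a ^ p = 1) (i : ZMod p) : a ^ (-i).val = (a ^ i.val)⁻¹ := by
  refine eq_inv_of_mul_eq_one_left ?_
  rw [← pow_val_add ha, neg_add_cancel, ZMod.val_zero, pow_zero]

/-- Coordinates on `E / Z(E)` with the commutator as determinant. -/
theorem exists_coords (hE : IsExtraspecial p E) (hcard : Nat.card E = p ^ 3) :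
    ∃ (f : E → Fin 2 → ZMod p) (z₀ : E), z₀ ∈ center E ∧ z₀ ≠ 1 ∧
      (∀ a b, f (a * b) = f a + f b) ∧ Function.Surjective f ∧ (∀ a, f a = 0 ↔ a ∈ center E) ∧
      ∀ a b, ⁅a, b⁆ = z₀ ^ (f a 0 * f b 1 - f a 1 * f b 0).val := by
  classical
  obtain ⟨x₀, hx₀⟩ : ∃ x : E, x ∉ center E := by
    by_contra! h
    exact Extraspecial.center_ne_top hE ((Subgroup.eq_top_iff' _).mpr h)
  obtain ⟨y₀, hy₀⟩ := Extraspecial.exists_not_commute_of_not_mem_center hx₀
  set z₀ := ⁅x₀, y₀⁆ with hz₀def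
  have hz : z₀ ∈ center E := Extraspecial.commutator_mem_center hE _ _
  have hz1 : z₀ ≠ 1 := fun h => hy₀ (by
    rw [hz₀def, commutatorElement_eq_one_iff_mul_comm] at h
    exact h.symm)
  have hzp : z₀ ^ p = 1 := Extraspecial.pow_eq_one_of_mem_center hE hz
  have hlog : ∀ w ∈ center E, ∃ i : ZMod p, z₀ ^ i.val = w := fun w hw => by
    rw [← Extraspecial.zpowers_eq_center hE hz hz1, ← mem_powers_iff_mem_zpowers] at hw
    obtain ⟨n, rfl⟩ := hw
    exact ⟨n, pow_val_natCast hzp n⟩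
  have hc := Extraspecial.commutator_mem_center hE
  choose c₁ hc₁ using fun a => hlog ⁅a, y₀⁆ (hc a y₀)
  choose c₂ hc₂ using fun a => hlog ⁅x₀, a⁆ (hc x₀ a)
  let f : E → Fin 2 → ZMod p := fun a => ![c₁ a, c₂ a]
  have hf : ∀ a b, f (a * b) = f a + f b := by
    intro a b
    have e1 : c₁ (a * b) = c₁ a + c₁ b := pow_val_inj hzp hz1 (by
      rw [hc₁, pow_val_add hzp, hc₁, hc₁, Extraspecial.commutator_mul_left (hc b y₀)])
    have e2 : c₂ (a * b) = c₂ a + c₂ b := pow_val_inj hzp hz1 (by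
      rw [hc₂, pow_val_add hzp, hc₂, hc₂, Extraspecial.commutator_mul_right (hc x₀ b)])
    ext i; fin_cases i <;> simp [f, e1, e2]
  have h0 : ∀ a, z₀ ^ (c₁ a).val = ⁅a, y₀⁆ ∧ z₀ ^ (c₂ a).val = ⁅x₀, a⁆ := fun a => ⟨hc₁ a, hc₂ a⟩
  let fh : E →* Multiplicative (Fin 2 → ZMod p) :=
    MonoidHom.mk' (fun a => Multiplicative.ofAdd (f a)) (fun a b => by rw [hf, ofAdd_add])
  have hone : ∀ i : ZMod p, (z₀ ^ i.val = z₀ ↔ i = 1) := fun i => by
    constructor
    · intro h
      refine pow_val_inj hzp hz1 (h.trans ?_)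
      rw [ZMod.val_one, pow_one]
    · rintro rfl
      rw [ZMod.val_one, pow_one]
  have hzero : ∀ i : ZMod p, (z₀ ^ i.val = 1 ↔ i = 0) := fun i => by
    constructor
    · intro h
      refine pow_val_inj hzp hz1 (h.trans ?_)
      rw [ZMod.val_zero, pow_zero]
    · rintro rfl
      rw [ZMod.val_zero, pow_zero]
  have fx : f x₀ = ![1, 0] := by
    have e1 : c₁ x₀ = 1 := (hone _).mp (hc₁ x₀)
    have e2 : c₂ x₀ = 0 := (hzero _).mp ((hc₂ x₀).trans (commutatorElement_self x₀))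
    simp [f, e1, e2]
  have fy : f y₀ = ![0, 1] := by
    have e1 : c₁ y₀ = 0 := (hzero _).mp ((hc₁ y₀).trans (commutatorElement_self y₀))
    have e2 : c₂ y₀ = 1 := (hone _).mp (hc₂ y₀)
    simp [f, e1, e2]
  have hpow : ∀ (a : E) (n : ℕ), f (a ^ n) = n • f a := by
    intro a n
    induction n with
    | zero =>
      have := hf 1 1
      rw [one_mul] at this
      rw [pow_zero, zero_smul]
      simpa using this
    | succ n ih => rw [pow_succ, hf, ih, succ_nsmul]
  have hsurj : Function.Surjective f := fun v => by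
    refine ⟨x₀ ^ (v 0).val * y₀ ^ (v 1).val, ?_⟩
    rw [hf, hpow, hpow, fx, fy]
    ext i; fin_cases i <;> simp
  have hcen : ∀ a ∈ center E, f a = 0 := fun a ha => by
    have e1 : c₁ a = 0 := (hzero _).mp ((hc₁ a).trans
      (commutatorElement_eq_one_iff_mul_comm.mpr (mem_center_iff.mp ha y₀).symm))
    have e2 : c₂ a = 0 := (hzero _).mp ((hc₂ a).trans
      (commutatorElement_eq_one_iff_mul_comm.mpr (mem_center_iff.mp ha x₀)))
    simp [f, e1, e2]
  have hker : fh.ker = center E := by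
    refine (eq_of_le_of_card_ge (fun a ha => ?_) ?_).symm
    · exact MonoidHom.mem_ker.mpr (by simp [fh, hcen a ha])
    · have h1 := fh.ker.card_mul_index
      rw [fh.ker.index_eq_card, Nat.card_congr (QuotientGroup.quotientKerEquivOfSurjective fh
        (fun v => (hsurj (Multiplicative.toAdd v)).imp fun a ha => by simp [fh, ha])).toEquiv,
        hcard] at h1
      have h2 : Nat.card (Multiplicative (Fin 2 → ZMod p)) = p ^ 2 := by
        rw [Nat.card_congr Multiplicative.toAdd, Nat.card_pi]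
        simp
      rw [h2] at h1
      rw [Extraspecial.card_center hE]
      have : 0 < p ^ 2 := pow_pos hp.out.pos 2
      exact (Nat.eq_of_mul_eq_mul_right this (by rw [h1]; ring)).le
  have hzero' : ∀ a, f a = 0 ↔ a ∈ center E := fun a => by
    rw [← hker, MonoidHom.mem_ker]
    simp [fh]
  refine ⟨f, z₀, hz, hz1, hf, hsurj, hzero', fun a b => ?_⟩
  -- write `a` in terms of the two generators
  set w := (x₀ ^ (f a 0).val * y₀ ^ (f a 1).val)⁻¹ * a with hw
  have hwc : w ∈ center E := by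
    rw [← hzero']
    have h := hf (x₀ ^ (f a 0).val * y₀ ^ (f a 1).val) w
    rw [hw, mul_inv_cancel_left, hf, hpow, hpow, fx, fy] at h
    have e : (f a 0).val • (![1, 0] : Fin 2 → ZMod p) + (f a 1).val • ![0, 1] = f a := by
      ext i; fin_cases i <;> simp
    rw [e] at h
    exact (add_eq_left.mp h.symm)
  have ha : a = x₀ ^ (f a 0).val * y₀ ^ (f a 1).val * w := by rw [hw, mul_inv_cancel_left]
  have hwb : ⁅w, b⁆ = 1 :=
    commutatorElement_eq_one_iff_mul_comm.mpr (mem_center_iff.mp hwc b).symm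
  conv_lhs => rw [ha]
  rw [Extraspecial.commutator_mul_left (hwb ▸ one_mem _), hwb, mul_one,
    Extraspecial.commutator_mul_left (hc _ _), Extraspecial.commutator_pow_left (hc _ _),
    Extraspecial.commutator_pow_left (hc _ _)]
  have hb1 : ⁅x₀, b⁆ = z₀ ^ (f b 1).val := (hc₂ b).symm
  have hb0 : ⁅y₀, b⁆ = (z₀ ^ (f b 0).val)⁻¹ := by
    rw [← commutatorElement_inv b y₀]
    exact congrArg _ (hc₁ b).symm
  rw [hb1, hb0, inv_pow, sub_eq_add_neg, pow_val_add hzp, pow_val_neg hzp, ← pow_mul, ← pow_mul,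
    ZMod.val_mul, ZMod.val_mul, ← pow_eq_pow_mod _ hzp, ← pow_eq_pow_mod _ hzp, mul_comm (f b 1).val,
    mul_comm (f b 0).val]

end Coords

section Setting

variable {G : Type*} [Group G] [Finite G]

/-- The main bound. -/
theorem card_le_of_radical_lines (P : Sylow p G) (hE : IsExtraspecial p ↥P)
    (hcard : Nat.card P = p ^ 3) (hexp : Monoid.exponent ↥P = p) (t : (ZMod p)ˣ) {ι : Type*}
    [Finite ι] (z : ↥P) (hz : z ∈ center ↥P) (hz1 : z ≠ 1) (x : ι → ↥P)
    (hx : ∀ i, x i ∉ center ↥P) (hdist : ∀ i j, i ≠ j → ∀ a b : ℕ, x i ≠ x j ^ a * z ^ b)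
    (hg : ∀ i, ∃ g : G, g * (x i : G) * g⁻¹ = (x i : G) ∧ g * (z : G) * g⁻¹ = (z : G) * (x i : G)) :
    (6 ≤ orderOf (t ^ 3) → Nat.card ι ≤ 2) ∧ (4 ≤ orderOf (t ^ 3) → Nat.card ι ≤ 12) := by
  classical
  obtain ⟨f, z₀, hz₀, hz₀1, hf, hsurj, hker, hdet⟩ := exists_coords hE hcard
  have hzp : ∀ a : ↥P, a ^ p = 1 := fun a => by
    have := Monoid.pow_exponent_eq_one a
    rwa [hexp] at this
  have hf1 : f 1 = 0 := (hker 1).mpr (one_mem _)
  have hfpow : ∀ (a : ↥P) (n : ℕ), f (a ^ n) = n • f a := by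
    intro a n
    induction n with
    | zero => rw [pow_zero, zero_smul, hf1]
    | succ n ih => rw [pow_succ, hf, ih, succ_nsmul]
  have hpow_mem : ∀ a ∈ center ↥P, ∀ w : ↥P, w ∈ center ↥P → a ≠ 1 → ∃ n : ℕ, a ^ n = w := by
    intro a ha w hw ha1
    rw [← Extraspecial.zpowers_eq_center hE ha ha1, ← mem_powers_iff_mem_zpowers] at hw
    exact hw
  -- the action of the normalizer on coordinates
  let N := normalizer ((P : Subgroup G) : Set G)
  let τ : N → ↥P → ↥P := fun n a =>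
    ⟨(n : G) * a * (n : G)⁻¹, (mem_normalizer_iff.mp n.2 a).mp a.2⟩
  have τmul : ∀ n a b, τ n (a * b) = τ n a * τ n b := fun n a b => Subtype.ext (by
    show (n : G) * ((a : G) * b) * (n : G)⁻¹ = (n * a * (n : G)⁻¹) * (n * b * (n : G)⁻¹)
    group)
  have τcomp : ∀ n m a, τ (n * m) a = τ n (τ m a) := fun n m a => Subtype.ext (by
    simp only [τ, Subgroup.coe_mul]; group)
  have τone : ∀ a, τ 1 a = a := fun a => Subtype.ext (by simp [τ])
  have τcen : ∀ n a, a ∈ center ↥P → τ n a ∈ center ↥P := fun n a ha => by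
    rw [mem_center_iff]
    intro b
    obtain ⟨b', rfl⟩ : ∃ b', τ n b' = b := ⟨τ n⁻¹ b, by rw [← τcomp, mul_inv_cancel, τone]⟩
    rw [← τmul, ← τmul, mem_center_iff.mp ha b']
  obtain ⟨sec, hsec⟩ := hsurj.hasRightInverse
  let Lf : N → (Fin 2 → ZMod p) → (Fin 2 → ZMod p) := fun n v => f (τ n (sec v))
  have hL : ∀ n a, f (τ n a) = Lf n (f a) := by
    intro n a
    have hd : (sec (f a))⁻¹ * a ∈ center ↥P := by
      rw [← hker]
      have h := hf (sec (f a)) ((sec (f a))⁻¹ * a)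
      rw [mul_inv_cancel_left, hsec] at h
      exact add_eq_left.mp h.symm
    have h := hf (τ n (sec (f a))) (τ n ((sec (f a))⁻¹ * a))
    rw [← τmul, mul_inv_cancel_left, (hker _).mpr (τcen n _ hd), add_zero] at h
    exact h
  have hLadd : ∀ n v w, Lf n (v + w) = Lf n v + Lf n w := fun n v w => by
    conv_lhs => rw [← hsec v, ← hsec w, ← hf, ← hL, τmul, hf, hL, hL, hsec, hsec]
  let A : N → ((Fin 2 → ZMod p) →ₗ[ZMod p] (Fin 2 → ZMod p)) := fun n =>
    (AddMonoidHom.mk' (Lf n) (hLadd n)).toZModLinearMap p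
  have hA : ∀ n v, A n v = Lf n v := fun n v => rfl
  let Mh : N →* Matrix (Fin 2) (Fin 2) (ZMod p) :=
    { toFun := fun n => LinearMap.toMatrix' (A n)
      map_one' := by
        have : A 1 = LinearMap.id := LinearMap.ext fun v => by
          rw [hA, LinearMap.id_apply]; simp only [Lf, τone, hsec v]
        rw [this, LinearMap.toMatrix'_id]
      map_mul' := fun n m => by
        have : A (n * m) = (A n).comp (A m) := LinearMap.ext fun v => by
          rw [LinearMap.comp_apply, hA, hA, hA]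
          conv_lhs => rw [← hsec v, ← hL, τcomp, hL, hL, hsec]
        rw [this, LinearMap.toMatrix'_comp] }
  have hMv : ∀ n a, (Mh n).mulVec (f a) = f (τ n a) := fun n a => by
    show (LinearMap.toMatrix' (A n)).mulVec (f a) = _
    rw [LinearMap.toMatrix'_mulVec, hA, ← hL]
  have hρP : ∀ n : N, (n : G) ∈ (P : Subgroup G) → Mh n = 1 := fun n hn => by
    have : A n = LinearMap.id := LinearMap.ext fun v => by
      rw [hA, LinearMap.id_apply]
      have e : τ n (sec v) = (⟨n, hn⟩ : ↥P) * sec v * (⟨n, hn⟩ : ↥P)⁻¹ := rfl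
      show f (τ n (sec v)) = v
      rw [e, hf, hf, add_right_comm, ← hf, mul_inv_cancel, hf1, zero_add, hsec]
    show LinearMap.toMatrix' (A n) = 1
    rw [this, LinearMap.toMatrix'_id]
  let ρ : N →* Matrix.GeneralLinearGroup (Fin 2) (ZMod p) := Mh.toHomUnits
  have hρ : ∀ n, ¬ p ∣ orderOf (ρ n) := by
    intro n hd
    have h1 : (P : Subgroup G).subgroupOf N ≤ ρ.ker := fun m hm =>
      MonoidHom.mem_ker.mpr (Units.ext (hρP m hm))
    have h2 : p ∣ ρ.ker.index := by
      rw [index_ker]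
      exact hd.trans (Subgroup.orderOf_dvd_natCard _ ⟨n, rfl⟩)
    have h3 : p ∣ (P : Subgroup G).relIndex N := h2.trans (index_dvd_of_le h1)
    exact P.not_dvd_index (h3.trans (relIndex_dvd_index_of_le le_normalizer))
  refine card_lines_le ρ hρ t (fun i => f (x i)) (fun i h => hx i ((hker _).mp h)) ?_ ?_
  · intro i j hij a ha
    have hd : (x j ^ a.val)⁻¹ * x i ∈ center ↥P := by
      rw [← hker]
      have h := hf (x j ^ a.val) ((x j ^ a.val)⁻¹ * x i)
      rw [mul_inv_cancel_left, hfpow, ha, ← Nat.cast_smul_eq_nsmul (ZMod p),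
        ZMod.natCast_zmod_val] at h
      exact add_eq_left.mp h.symm
    obtain ⟨b, hb⟩ := hpow_mem z hz _ hd hz1
    exact hdist i j hij a.val b (by rw [hb, mul_inv_cancel_left])
  · intro i
    obtain ⟨g, hgx, hgz⟩ := hg i
    obtain ⟨ez, hez⟩ := hpow_mem z₀ hz₀ z hz hz₀1
    -- an element of `P` adding `z` to `x i`
    obtain ⟨u, hu⟩ : ∃ u : ↥P, u * x i * u⁻¹ = z * x i := by
      obtain ⟨v, hv⟩ : ∃ v : Fin 2 → ZMod p, v 0 * f (x i) 1 - v 1 * f (x i) 0 = (ez : ZMod p) := by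
        by_cases h1 : f (x i) 1 = 0
        · have h0 : f (x i) 0 ≠ 0 := fun h0 => hx i ((hker _).mp (funext fun k => by
            fin_cases k <;> assumption))
          refine ⟨![0, -(ez : ZMod p) / f (x i) 0], ?_⟩
          simp [div_mul_cancel₀ _ h0]
        · exact ⟨![(ez : ZMod p) / f (x i) 1, 0], by simp [div_mul_cancel₀ _ h1]⟩
      refine ⟨sec v, ?_⟩
      have h := hdet (sec v) (x i)
      rw [hsec, hv, pow_val_natCast (hzp _), hez] at h
      rw [← h, commutatorElement_def, inv_mul_cancel_right]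
    set X : G := (x i : G) with hX
    set Z : G := (z : G) with hZ
    have hXZ : Commute X Z := congrArg Subtype.val (mem_center_iff.mp hz (x i))
    have hXp : X ^ p = 1 := by rw [hX, ← Subgroup.coe_pow, hzp]; rfl
    have hZp : Z ^ p = 1 := by rw [hZ, ← Subgroup.coe_pow, hzp]; rfl
    have huX : (u : G) * X * (u : G)⁻¹ = Z * X := congrArg Subtype.val hu
    have huZ : (u : G) * Z * (u : G)⁻¹ = Z := by
      rw [hZ]
      exact congrArg Subtype.val
        (show u * z * u⁻¹ = z by rw [mem_center_iff.mp hz u, mul_inv_cancel_right])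
    have cj : ∀ (a : G) (b c : G), a * (b * c) * a⁻¹ = (a * b * a⁻¹) * (a * c * a⁻¹) := fun a b c => by
      group
    have upow : ∀ k : ℕ, (u : G) ^ k * X * ((u : G) ^ k)⁻¹ = Z ^ k * X ∧
        (u : G) ^ k * Z * ((u : G) ^ k)⁻¹ = Z := by
      intro k
      induction k with
      | zero => simp
      | succ k ih =>
        constructor
        · rw [pow_succ' (u : G), show (u : G) * (u : G) ^ k * X * ((u : G) * (u : G) ^ k)⁻¹ =
            (u : G) * ((u : G) ^ k * X * ((u : G) ^ k)⁻¹) * (u : G)⁻¹ by group, ih.1, cj, huX,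
            ← conj_pow, huZ, pow_succ, mul_assoc]
        · rw [pow_succ' (u : G), show (u : G) * (u : G) ^ k * Z * ((u : G) * (u : G) ^ k)⁻¹ =
            (u : G) * ((u : G) ^ k * Z * ((u : G) ^ k)⁻¹) * (u : G)⁻¹ by group, ih.2, huZ]
    have gpow : ∀ k : ℕ, g ^ k * X * (g ^ k)⁻¹ = X ∧ g ^ k * Z * (g ^ k)⁻¹ = Z * X ^ k := by
      intro k
      induction k with
      | zero => simp
      | succ k ih =>
        constructor
        · rw [pow_succ' g, show g * g ^ k * X * (g * g ^ k)⁻¹ =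
            g * (g ^ k * X * (g ^ k)⁻¹) * g⁻¹ by group, ih.1, hgx]
        · rw [pow_succ' g, show g * g ^ k * Z * (g * g ^ k)⁻¹ =
            g * (g ^ k * Z * (g ^ k)⁻¹) * g⁻¹ by group, ih.2, cj, ← conj_pow, hgx, hgz, pow_succ',
            mul_assoc]
    set t₁ := ((t : ZMod p)).val with ht₁
    set t₂ := (((t⁻¹ : (ZMod p)ˣ) : ZMod p)).val with ht₂
    set d := (-(((t⁻¹ : (ZMod p)ˣ) : ZMod p))).val with hd
    set j := ((t : ZMod p) - 1).val with hj
    have epow : ∀ (a : G), a ^ p = 1 → ∀ m n : ℕ, (m : ZMod p) = (n : ZMod p) → a ^ m = a ^ n := by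
      intro a ha m n hmn
      rw [pow_eq_pow_mod m ha, pow_eq_pow_mod n ha]
      congr 1
      exact (ZMod.natCast_eq_natCast_iff' m n p).mp hmn
    have hti : (t : ZMod p) * ((t⁻¹ : (ZMod p)ˣ) : ZMod p) = 1 := by
      rw [← Units.val_mul, mul_inv_cancel, Units.val_one]
    set n := g ^ d * (u : G) ^ j * g with hn
    have hnZ : n * Z * n⁻¹ = Z ^ t₁ := by
      rw [hn, show g ^ d * (u : G) ^ j * g * Z * (g ^ d * (u : G) ^ j * g)⁻¹ =
        g ^ d * ((u : G) ^ j * (g * Z * g⁻¹) * ((u : G) ^ j)⁻¹) * (g ^ d)⁻¹ by group, hgz,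
        cj ((u : G) ^ j), (upow j).1, (upow j).2, ← mul_assoc Z, ← pow_succ', cj (g ^ d), ← conj_pow, (gpow d).1, (gpow d).2,
        (hXZ.symm.pow_right d).mul_pow, mul_assoc, ← pow_mul, ← pow_succ]
      rw [epow Z hZp (j + 1) t₁ (by
          push_cast
          rw [hj, ht₁, ZMod.natCast_zmod_val, ZMod.natCast_zmod_val]; ring)]
      rw [epow X hXp (d * (j + 1) + 1) 0 (by
          push_cast
          rw [hj, hd, ZMod.natCast_zmod_val, ZMod.natCast_zmod_val]
          linear_combination (-1 : ZMod p) * hti), pow_zero, mul_one]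
    have hnX : n * X * n⁻¹ = Z ^ j * X ^ t₂ := by
      rw [hn, show g ^ d * (u : G) ^ j * g * X * (g ^ d * (u : G) ^ j * g)⁻¹ =
        g ^ d * ((u : G) ^ j * (g * X * g⁻¹) * ((u : G) ^ j)⁻¹) * (g ^ d)⁻¹ by group, hgx,
        (upow j).1, cj (g ^ d), ← conj_pow, (gpow d).1, (gpow d).2,
        (hXZ.symm.pow_right d).mul_pow, mul_assoc, ← pow_mul, ← pow_succ]
      congr 1
      refine epow X hXp _ _ ?_
      push_cast
      rw [hj, hd, ht₂, ZMod.natCast_zmod_val, ZMod.natCast_zmod_val, ZMod.natCast_zmod_val]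
      linear_combination (-1 : ZMod p) * hti
    -- the subgroup acting unitriangularly on `⟨Z, X⟩`
    let K : Subgroup G :=
      { carrier := {k | k * Z * k⁻¹ = Z ∧ ∃ a : ℤ, k * X * k⁻¹ = X * Z ^ a}
        one_mem' := ⟨by simp, 0, by simp⟩
        mul_mem' := by
          rintro a b ⟨ha, r, hr⟩ ⟨hb, s, hs⟩
          refine ⟨by rw [show a * b * Z * (a * b)⁻¹ = a * (b * Z * b⁻¹) * a⁻¹ by group, hb, ha],
            r + s, ?_⟩
          rw [show a * b * X * (a * b)⁻¹ = a * (b * X * b⁻¹) * a⁻¹ by group, hs, cj, hr,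
            ← conj_zpow, ha, zpow_add, mul_assoc]
        inv_mem' := by
          rintro a ⟨ha, r, hr⟩
          have e1 : a⁻¹ * Z * a⁻¹⁻¹ = Z := by
            conv_lhs => rw [← ha]
            group
          refine ⟨e1, -r, ?_⟩
          have e2 : a⁻¹ * (X * Z ^ r) * a⁻¹⁻¹ = X := by rw [← hr]; group
          rw [cj, ← conj_zpow, e1] at e2
          rw [zpow_neg, eq_mul_inv_iff_mul_eq]
          exact e2 }
    have hPK : (P : Subgroup G) ≤ K := by
      intro a ha
      refine ⟨?_, ?_⟩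
      · rw [hZ]
        exact congrArg Subtype.val (show (⟨a, ha⟩ : ↥P) * z * ⟨a, ha⟩⁻¹ = z by
          rw [mem_center_iff.mp hz, mul_inv_cancel_right])
      · obtain ⟨e, he⟩ := hpow_mem z hz _ (Extraspecial.commutator_mem_center hE ⟨a, ha⟩ (x i)) hz1
        refine ⟨(e : ℤ), ?_⟩
        rw [zpow_natCast, (hXZ.pow_right e).eq, hZ, ← Subgroup.coe_pow, he]
        simp [hX, commutatorElement_def, mul_assoc]
    have hZt : (Z ^ t₁) ^ t₂ = Z := by
      rw [← pow_mul, epow Z hZp (t₁ * t₂) 1 (by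
        push_cast; rw [ht₁, ht₂, ZMod.natCast_zmod_val, ZMod.natCast_zmod_val, hti]), pow_one]
    have hXt : (X ^ t₂) ^ t₁ = X := by
      rw [← pow_mul, epow X hXp (t₂ * t₁) 1 (by
        push_cast; rw [ht₁, ht₂, ZMod.natCast_zmod_val, ZMod.natCast_zmod_val, mul_comm, hti]),
        pow_one]
    have hnPK : ((n • P : Sylow p G) : Subgroup G) ≤ K := by
      intro b hb
      rw [Sylow.smul_def, Sylow.pointwise_smul_def, mem_pointwise_smul_iff_inv_smul_mem] at hb
      simp only [← map_inv, MulAut.smul_def, MulAut.conj_apply, inv_inv] at hb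
      obtain ⟨hbZ, r, hbX⟩ := hPK hb
      have e1 : b * (Z ^ t₁) * b⁻¹ = Z ^ t₁ := by
        rw [← hnZ, show b * (n * Z * n⁻¹) * b⁻¹ =
          n * ((n⁻¹ * b * n) * Z * (n⁻¹ * b * n)⁻¹) * n⁻¹ by group, hbZ]
      have e2 : b * Z * b⁻¹ = Z := by rw [← hZt, ← conj_pow, e1]
      refine ⟨e2, r * t₁ * t₁, ?_⟩
      have e3 : b * (Z ^ j * X ^ t₂) * b⁻¹ = (Z ^ j * X ^ t₂) * (Z ^ t₁) ^ r := by
        rw [← hnX, show b * (n * X * n⁻¹) * b⁻¹ =
          n * ((n⁻¹ * b * n) * X * (n⁻¹ * b * n)⁻¹) * n⁻¹ by group, hbX, cj, ← conj_zpow, hnZ]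
      rw [cj, ← conj_pow, ← conj_pow, e2, mul_assoc (Z ^ j), mul_left_cancel_iff] at e3
      have e4 : b * X * b⁻¹ = (b * X * b⁻¹) ^ (t₂ * t₁) := by rw [conj_pow, pow_mul, hXt]
      rw [e4, pow_mul, e3]
      have hc : Commute (X ^ t₂) ((Z ^ t₁) ^ r) := ((hXZ.pow_pow t₂ t₁)).zpow_right r
      rw [hc.mul_pow, hXt, ← zpow_natCast Z, ← zpow_mul, ← zpow_natCast, ← zpow_mul]
      congr 2
      ring
    obtain ⟨k, hk⟩ := MulAction.exists_smul_eq ↥K ((n • P).subtype hnPK) (P.subtype hPK)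
    rw [Sylow.smul_subtype hnPK] at hk
    have hk' : (k : G) • (n • P) = P := Sylow.subtype_injective hk
    rw [smul_smul, Sylow.smul_eq_iff_mem_normalizer] at hk'
    obtain ⟨hkZ, r, hkX⟩ := k.2
    have hZh : (k : G) * n * Z * ((k : G) * n)⁻¹ = Z ^ t₁ := by
      rw [show (k : G) * n * Z * ((k : G) * n)⁻¹ = (k : G) * (n * Z * n⁻¹) * (k : G)⁻¹ by group,
        hnZ, ← conj_pow, hkZ]
    refine ⟨⟨(k : G) * n, hk'⟩, ?_, ?_⟩
    · show (Mh ⟨(k : G) * n, hk'⟩).mulVec (f (x i)) = _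
      rw [hMv]
      have hXh : τ ⟨(k : G) * n, hk'⟩ (x i) = z ^ j * (x i * z ^ r) ^ t₂ := by
        refine Subtype.ext ?_
        simp only [τ, Subgroup.coe_mul, Subgroup.coe_pow, Subgroup.coe_zpow]
        rw [show (k : G) * n * X * ((k : G) * n)⁻¹ = (k : G) * (n * X * n⁻¹) * (k : G)⁻¹ by group,
          hnX, cj, ← conj_pow, ← conj_pow, hkZ, hkX]
        rfl
      rw [hXh, hf, hfpow, hfpow, hf, (hker z).mpr hz, (hker _).mpr (zpow_mem hz r), smul_zero,
        zero_add, add_zero, ← Nat.cast_smul_eq_nsmul (ZMod p), ht₂, ZMod.natCast_zmod_val]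
    · show (Mh ⟨(k : G) * n, hk'⟩).det = _
      obtain ⟨a, ha⟩ := hsurj ![1, 0]
      obtain ⟨b, hb⟩ := hsurj ![0, 1]
      set h : N := ⟨(k : G) * n, hk'⟩
      have e1 : ⁅τ h a, τ h b⁆ = τ h z₀ := by
        have := hdet a b
        rw [ha, hb] at this
        simp [ZMod.val_one] at this
        rw [← this]
        exact Subtype.ext (by simp [τ, commutatorElement_def, Subgroup.coe_mul]; group)
      obtain ⟨ez', hez'⟩ := hpow_mem z hz z₀ hz₀ hz1
      have e2 : τ h z₀ = z₀ ^ t₁ := by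
        refine Subtype.ext ?_
        rw [← hez']
        show ((k : G) * n) * (Z ^ ez') * ((k : G) * n)⁻¹ = (Z ^ ez') ^ t₁
        rw [← conj_pow, hZh, ← pow_mul, ← pow_mul, mul_comm]
      rw [hdet, e2, ht₁, ← hMv, ← hMv, ha, hb] at e1
      have e3 := pow_val_inj (hzp z₀) hz₀1 e1
      rw [← e3, Matrix.det_fin_two]
      simp [Matrix.mulVec, dotProduct, Fin.sum_univ_two]
      ring

end Setting

/-- A power of a generator of the units has large order. -/
theorem exists_unit_orderOf_cube :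
    ∃ t : (ZMod p)ˣ, orderOf (t ^ 3) = (p - 1) / Nat.gcd (p - 1) 3 := by
  obtain ⟨t, ht⟩ := IsCyclic.exists_ofOrder_eq_natCard (α := (ZMod p)ˣ)
  refine ⟨t, ?_⟩
  rw [orderOf_pow, ht, Nat.card_eq_fintype_card, ZMod.card_units]

end Cfsg.Agent.Lib.ExtraCubeRadical
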